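import Mathlib.GroupTheory.SemidirectProduct
import Cfsg.Agent.Lib.ThompsonPQ

/-!
# Thompson's `A × B` lemma modulo the kernel of the action

`axb`: `D` and `y` normalize the `p`-group `V`, `D` acts as a `p`-group on `V`, `y` has order prime to `p`, `[D, y]` centralizes `V`
and `y` centralizes `C_V(D)`. Then `y` centralizes `V`.
-/

set_option autoImplicit false

namespace Cfsg.Agent.H225.AxB

open Subgroup

variable {H : Type*} [Group H]

theorem axb [Finite H] {p : ℕ} [Fact p.Prime] {V D : Subgroup H} (hV : IsPGroup p V)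
    (hDV : D ≤ normalizer (V : Set H))
    (hDk : ∀ d ∈ D, ∃ k : ℕ, d ^ p ^ k ∈ centralizer (V : Set H)) {y : H}
    (hyV : y ∈ normalizer (V : Set H)) (hy : Nat.Coprime (orderOf y) p)
    (hcom : ∀ d ∈ D, d * y * d⁻¹ * y⁻¹ ∈ centralizer (V : Set H))
    (hfix : ∀ v ∈ V, (∀ d ∈ D, d * v = v * d) → y * v = v * y) : y ∈ centralizer (V : Set H) := by
  let φ : normalizer (V : Set H) →* MulAut V := V.normalizerMonoidHom
  have hφ : ∀ (g : normalizer (V : Set H)) (v : V), ((φ g v : V) : H) = g * v * (g : H)⁻¹ :=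
    fun g v => rfl
  have hker : ∀ g : normalizer (V : Set H), φ g = 1 ↔ (g : H) ∈ centralizer (V : Set H) := by
    intro g
    rw [← MonoidHom.mem_ker, normalizerMonoidHom_ker, mem_subgroupOf]
  let G := V ⋊[MonoidHom.id (MulAut V)] MulAut V
  haveI : Finite (MulAut V) := by
    refine Finite.of_injective (fun f : MulAut V => (f : V → V)) ?_
    intro f g h
    exact DFunLike.coe_injective h
  haveI : Finite G := Finite.of_equiv _ SemidirectProduct.equivProd.symm
  let inr : MulAut V →* G := SemidirectProduct.inr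
  let inl : V →* G := SemidirectProduct.inl
  have haut : ∀ (f : MulAut V) (v : V), inl (f v) = inr f * inl v * (inr f)⁻¹ := by
    intro f v
    have := SemidirectProduct.inl_aut (φ := MonoidHom.id (MulAut V)) f v
    simpa using this
  have hcomm : ∀ (f : MulAut V) (v : V), inr f * inl v = inl v * inr f ↔ f v = v := by
    intro f v
    constructor
    · intro h
      apply SemidirectProduct.inl_injective (φ := MonoidHom.id (MulAut V))
      show inl (f v) = inl v
      rw [haut, h, mul_inv_cancel_right]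
    · intro h
      have := haut f v
      rw [h] at this
      rw [eq_mul_inv_iff_mul_eq] at this
      exact this.symm
  let yN : normalizer (V : Set H) := ⟨y, hyV⟩
  let P : Subgroup G := ((D.subgroupOf (normalizer (V : Set H))).map φ).map inr
  let Q : Subgroup G := Subgroup.zpowers (inr (φ yN))
  let U : Subgroup G := inl.range
  have hUn : U.Normal := by
    have : U = (SemidirectProduct.rightHom : G →* MulAut V).ker :=
      SemidirectProduct.range_inl_eq_ker_rightHom
    rw [this]; infer_instance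
  have key := Cfsg.Agent.Lib.ThompsonPQ.thompson_p_times_q p P Q U ?_ ?_ ?_ ?_ ?_ ?_ ?_
  · rw [mem_centralizer_iff]
    intro v hv
    have h1 : inr (φ yN) ∈ centralizer (U : Set G) := key (Subgroup.mem_zpowers _)
    have h2 := (mem_centralizer_iff.1 h1) (inl ⟨v, hv⟩) ⟨_, rfl⟩
    have h3 := (hcomm (φ yN) ⟨v, hv⟩).1 h2.symm
    have h4 : y * v * y⁻¹ = v := congrArg Subtype.val h3
    exact (mul_inv_eq_iff_eq_mul.1 h4).symm
  · rintro ⟨_, _, ⟨d, hd, rfl⟩, rfl⟩
    obtain ⟨k, hk⟩ := hDk d hd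
    refine ⟨k, Subtype.ext ?_⟩
    show inr (φ d) ^ p ^ k = 1
    rw [← map_pow, ← map_pow, (hker (d ^ p ^ k)).2 hk, map_one]
  · have h1 : Nat.card Q = orderOf (inr (φ yN)) := Nat.card_zpowers _
    rw [h1]
    have h2 : orderOf (inr (φ yN)) ∣ orderOf yN := orderOf_map_dvd (inr.comp φ) yN
    have h3 : orderOf yN = orderOf y := Subgroup.orderOf_mk y hyV
    rw [h3] at h2
    exact Nat.Coprime.coprime_dvd_left h2 hy
  · rintro ⟨_, v, rfl⟩
    obtain ⟨k, hk⟩ := hV v
    refine ⟨k, Subtype.ext ?_⟩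
    show inl v ^ p ^ k = 1
    rw [← map_pow, hk, map_one]
  · rintro _ ⟨_, ⟨d, hd, rfl⟩, rfl⟩
    have h1 : φ d * φ yN = φ yN * φ d := by
      rw [← mul_inv_eq_one, mul_inv_rev, ← map_inv, ← map_inv, ← map_mul, ← map_mul, ← map_mul,
        hker]
      have e : ((d * yN * (d⁻¹ * yN⁻¹) : normalizer (V : Set H)) : H) =
          (d : H) * y * (d : H)⁻¹ * y⁻¹ := by
        change (d : H) * y * ((d : H)⁻¹ * y⁻¹) = _
        group
      rw [e]
      exact hcom d hd
    have h2 : Commute (inr (φ yN)) (inr (φ d)) := by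
      show inr (φ yN) * inr (φ d) = inr (φ d) * inr (φ yN)
      rw [← map_mul inr, ← map_mul inr, h1]
    rw [mem_centralizer_iff]
    rintro _ ⟨n, rfl⟩
    exact (h2.zpow_left n).eq
  · rw [normalizer_eq_top_iff.2 hUn]; exact le_top
  · rw [normalizer_eq_top_iff.2 hUn]; exact le_top
  · intro x hx
    obtain ⟨⟨v, rfl⟩, hv⟩ := mem_inf.1 hx
    rw [mem_centralizer_iff] at hv
    have h1 : y * (v : H) = v * y := by
      refine hfix v v.2 fun d hd => ?_
      have h2 := hv (inr (φ ⟨d, hDV hd⟩)) ⟨_, ⟨⟨d, hDV hd⟩, hd, rfl⟩, rfl⟩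
      have h3 := (hcomm _ _).1 h2
      have h4 : d * (v : H) * d⁻¹ = v := congrArg Subtype.val h3
      exact mul_inv_eq_iff_eq_mul.1 h4
    have h2 : φ yN v = v := Subtype.ext (by
      show y * (v : H) * y⁻¹ = v
      exact mul_inv_eq_iff_eq_mul.2 h1)
    have h3 : Commute (inr (φ yN)) (inl v) := (hcomm _ _).2 h2
    rw [mem_centralizer_iff]
    rintro _ ⟨n, rfl⟩
    exact (h3.zpow_left n).eq

end Cfsg.Agent.H225.AxB
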