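import Cfsg.Agent.H224.YL
import Cfsg.Agent.ClassTwoFusion.Gen

/-!
# Small tools for the local structure statements S2823 - S2826

* `conjClosure L W`: the subgroup generated by the `L`-conjugates of `W`.
* `le_centralizer_of_fixed`: a subgroup `D` of `L`, normalized by `L`, all of whose elements have a `p`-power power centralizing `V`,
  centralizes every `W ≤ V` centralized by `T ⊓ D` (`T` a Sylow `p`-subgroup).
* `exists_trace`: if `T` is a Sylow `p`-subgroup of the finite group `R` and `z` in the abelian normalized `V` is centralized by `T`,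
  and `[R, z] ≤ W`, then `z = c w` with `c ∈ V` centralized by `R` and `w ∈ W`.
-/

set_option autoImplicit false

namespace Cfsg.Agent.H225.Basic

open Cfsg Subgroup
open scoped commutatorElement

variable {H : Type*} [Group H]

/-- an element of order prime to `p` one of whose `p`-power powers lies in `K`, lies in `K` -/
theorem mem_of_pow_mem {p : ℕ} {K : Subgroup H} {x : H} (hx : Nat.Coprime (orderOf x) p)
    {k : ℕ} (hk : x ^ p ^ k ∈ K) : x ∈ K := by
  have h1 : Nat.Coprime (orderOf x) (p ^ k) := hx.pow_right k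
  obtain ⟨m, hm⟩ := exists_pow_eq_self_of_coprime h1.symm
  rw [← hm]
  exact pow_mem hk m

theorem le_centralizer_of_fixed [Finite H] {p : ℕ} [Fact p.Prime] (T : Sylow p H)
    {D V W : Subgroup H} (hTD : ∀ y ∈ (T : Subgroup H), ∀ k ∈ D, y * k * y⁻¹ ∈ D)
    (hk : ∀ x ∈ D, ∃ k : ℕ, x ^ p ^ k ∈ centralizer (V : Set H))
    (hWV : W ≤ V) (hW : (T : Subgroup H) ⊓ D ≤ centralizer (W : Set H)) :
    D ≤ centralizer (W : Set H) := by
  have h1 := ClassTwoFusion.Gen.not_dvd_relIndex T hTD
  have h2 := ClassTwoFusion.Gen.le_sup_of_pPrime (p := p) (K := D) (Q := (T : Subgroup H) ⊓ D)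
    (C := D ⊓ centralizer (V : Set H)) inf_le_right inf_le_left h1 (by
      intro x hx hxp
      obtain ⟨k, hk⟩ := hk x hx
      exact ⟨hx, mem_of_pow_mem hxp hk⟩)
  exact h2.trans (sup_le hW (inf_le_right.trans (Subgroup.centralizer_le hWV)))

/-- the subgroup generated by the `L`-conjugates of `W` -/
def conjClosure (L W : Subgroup H) : Subgroup H :=
  Subgroup.closure {x | ∃ g ∈ L, ∃ w ∈ W, x = g * w * g⁻¹}

theorem le_conjClosure (L W : Subgroup H) : W ≤ conjClosure L W := fun w hw =>
  Subgroup.subset_closure ⟨1, one_mem _, w, hw, by simp⟩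

theorem conj_mem_conjClosure {L W : Subgroup H} {g : H} (hg : g ∈ L) {x : H}
    (hx : x ∈ conjClosure L W) : g * x * g⁻¹ ∈ conjClosure L W := by
  unfold conjClosure at hx
  induction hx using Subgroup.closure_induction with
  | mem x hx =>
    obtain ⟨g', hg', w, hw, rfl⟩ := hx
    exact Subgroup.subset_closure ⟨g * g', mul_mem hg hg', w, hw, by group⟩
  | one => simp
  | mul x y _ _ hx hy =>
    have : g * (x * y) * g⁻¹ = (g * x * g⁻¹) * (g * y * g⁻¹) := by group
    rw [this]; exact mul_mem hx hy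
  | inv x _ hx =>
    have : g * x⁻¹ * g⁻¹ = (g * x * g⁻¹)⁻¹ := by group
    rw [this]; exact inv_mem hx

theorem mem_normalizer_of_forall {L V : Subgroup H} (h : ∀ g ∈ L, ∀ x ∈ V, g * x * g⁻¹ ∈ V) :
    L ≤ normalizer (V : Set H) := by
  intro g hg
  rw [mem_normalizer_iff]
  intro x
  refine ⟨fun hx => h g hg x hx, fun hx => ?_⟩
  have := h g⁻¹ (inv_mem hg) _ hx
  have e : g⁻¹ * (g * x * g⁻¹) * g⁻¹⁻¹ = x := by group
  rwa [e] at this

theorem le_normalizer_conjClosure (L W : Subgroup H) :
    L ≤ normalizer (conjClosure L W : Set H) :=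
  mem_normalizer_of_forall fun _ hg _ hx => conj_mem_conjClosure hg hx

theorem conjClosure_le {L W K : Subgroup H} (hWK : W ≤ K) (h : L ≤ normalizer (K : Set H)) :
    conjClosure L W ≤ K := by
  unfold conjClosure
  rw [Subgroup.closure_le]
  rintro _ ⟨g, hg, w, hw, rfl⟩
  exact (mem_normalizer_iff.1 (h hg) w).1 (hWK hw)

theorem normalizer_le_normalizer_centralizer (Y : Subgroup H) :
    normalizer (Y : Set H) ≤ normalizer (centralizer (Y : Set H) : Set H) := by
  refine mem_normalizer_of_forall fun g hg x hx => ?_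
  rw [mem_centralizer_iff]
  intro y hy
  have h1 : g⁻¹ * y * g ∈ Y := by
    have := (mem_normalizer_iff.1 (inv_mem hg) y).1 hy
    simpa using this
  have h2 := (mem_centralizer_iff.1 hx) _ h1
  calc y * (g * x * g⁻¹) = g * ((g⁻¹ * y * g) * x) * g⁻¹ := by group
    _ = g * (x * (g⁻¹ * y * g)) * g⁻¹ := by rw [h2]
    _ = g * x * g⁻¹ * y := by group

/-- a subgroup of the centre of `K` generated by elements of order dividing `p` is elementary abelian -/
theorem isElementaryAbelian_conjClosure {p : ℕ} {L W K : Subgroup H}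
    (hWK : W ≤ K) (hWC : W ≤ centralizer (K : Set H)) (hLK : L ≤ normalizer (K : Set H))
    (hp : ∀ w ∈ W, w ^ p = 1) : IsElementaryAbelian p (conjClosure L W) := by
  have h1 : conjClosure L W ≤ K := conjClosure_le hWK hLK
  have h2 : conjClosure L W ≤ centralizer (K : Set H) :=
    conjClosure_le hWC (hLK.trans (normalizer_le_normalizer_centralizer K))
  have hc : ∀ x ∈ conjClosure L W, ∀ y ∈ conjClosure L W, x * y = y * x := fun x hx y hy =>
    ((mem_centralizer_iff.1 (h2 hx)) y (h1 hy)).symm
  refine ⟨⟨⟨fun x y => Subtype.ext (hc x x.2 y y.2)⟩⟩, ?_⟩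
  intro x hx
  have : x ∈ conjClosure L W ∧ x ^ p = 1 := by
    unfold conjClosure at hx
    induction hx using Subgroup.closure_induction with
    | mem y hy =>
      refine ⟨Subgroup.subset_closure hy, ?_⟩
      obtain ⟨g, hg, w, hw, rfl⟩ := hy
      rw [conj_pow, hp w hw]; group
    | one => exact ⟨one_mem _, one_pow _⟩
    | mul x y _ _ hx hy =>
      refine ⟨mul_mem hx.1 hy.1, ?_⟩
      have : Commute x y := hc x hx.1 y hy.1
      rw [this.mul_pow, hx.2, hy.2, one_mul]
    | inv x _ hx => exact ⟨inv_mem hx.1, by rw [inv_pow, hx.2, inv_one]⟩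
  exact this.2

/-- A subgroup with `L ≤ N(D)` centralizing `W` centralizes the `L`-conjugates of `W`. -/
theorem le_centralizer_conjClosure {L W D : Subgroup H} (hLD : L ≤ normalizer (D : Set H))
    (h : D ≤ centralizer (W : Set H)) : D ≤ centralizer (conjClosure L W : Set H) := by
  rw [Subgroup.le_centralizer_iff]
  exact conjClosure_le (Subgroup.le_centralizer_iff.1 h)
    (hLD.trans (normalizer_le_normalizer_centralizer D))

/-- conjugating a finite subgroup into itself normalizes it -/
theorem mem_normalizer_of_conj_mem [Finite H] {T₀ : Subgroup H} {g : H}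
    (h : ∀ r ∈ T₀, g * r * g⁻¹ ∈ T₀) : g ∈ normalizer (T₀ : Set H) := by
  have h1 : T₀.map (MulAut.conj g).toMonoidHom ≤ T₀ := by
    rintro _ ⟨r, hr, rfl⟩
    exact h r hr
  have h2 : T₀.map (MulAut.conj g).toMonoidHom = T₀ := by
    apply Subgroup.eq_of_le_of_card_ge h1
    rw [Subgroup.card_map_of_injective (MulAut.conj g).injective]
  rw [mem_normalizer_iff]
  intro x
  refine ⟨fun hx => h x hx, fun hx => ?_⟩
  rw [← h2] at hx
  obtain ⟨r, hr, e⟩ := hx
  have e' : g * r * g⁻¹ = g * x * g⁻¹ := e
  have : r = x := by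
    have := mul_right_cancel e'
    exact mul_left_cancel this
  rwa [← this]

end Cfsg.Agent.H225.Basic
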