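import Cfsg.Agent.H225.Basic

/-!
# Relative trace

`exists_trace`: `T ≤ R` of index prime to `p`, `V` abelian normalized by `R`, `z ∈ V` of order dividing `p` centralized by `T` with
`[R, z] ≤ W ≤ V`. Then `z = c w` with `c ∈ V` centralized by `R` and `w ∈ W`.
-/

set_option autoImplicit false

namespace Cfsg.Agent.H225.Trace

open Cfsg Subgroup Cfsg.Agent.H225.Basic

variable {H : Type*} [Group H]

theorem exists_trace [Finite H] {p : ℕ} [hp : Fact p.Prime] {R T V W : Subgroup H}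
    (hTR : T ≤ R) (hidx : ¬ p ∣ T.relIndex R)
    (hVc : ∀ x ∈ V, ∀ y ∈ V, x * y = y * x) (hRV : R ≤ normalizer (V : Set H)) (hWV : W ≤ V)
    {z : H} (hz : z ∈ V) (hzp : z ^ p = 1) (hTz : ∀ t ∈ T, t * z = z * t)
    (hW : ∀ g ∈ R, g * z * g⁻¹ * z⁻¹ ∈ W) :
    ∃ c ∈ V, (∀ g ∈ R, g * c = c * g) ∧ ∃ w ∈ W, z = c * w := by
  classical
  letI iV : CommGroup V :=
    { (inferInstance : Group V) with mul_comm := fun a b => Subtype.ext (hVc a a.2 b b.2) }
  let Q := R ⧸ (T.subgroupOf R)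
  haveI : Finite Q := Quotient.finite _
  haveI : Fintype Q := Fintype.ofFinite Q
  have hconj : ∀ g ∈ R, ∀ v ∈ V, g * v * g⁻¹ ∈ V := fun g hg v hv =>
    (mem_normalizer_iff.1 (hRV hg) v).1 hv
  let cj (g : R) : V →* V :=
    { toFun := fun v => ⟨(g : H) * v * (g : H)⁻¹, hconj g g.2 v v.2⟩
      map_one' := Subtype.ext (by simp)
      map_mul' := fun a b => Subtype.ext (by
        show (g : H) * ((a : H) * b) * (g : H)⁻¹ = (g : H) * a * (g : H)⁻¹ * ((g : H) * b * (g : H)⁻¹)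
        group) }
  let zV : V := ⟨z, hz⟩
  let f : Q → V := fun q => Quotient.liftOn' q (fun g : R => cj g zV) (by
    intro a b hab
    rw [QuotientGroup.leftRel_apply, mem_subgroupOf] at hab
    have h1 := hTz _ hab
    apply Subtype.ext
    show (a : H) * z * (a : H)⁻¹ = (b : H) * z * (b : H)⁻¹
    have h2 : ((a⁻¹ * b : R) : H) = (a : H)⁻¹ * b := rfl
    rw [h2] at h1
    have h3 : (b : H) = a * ((a : H)⁻¹ * b) := by group
    rw [h3]
    calc (a : H) * z * (a : H)⁻¹ = a * (z * ((a : H)⁻¹ * b)) * ((a : H)⁻¹ * b)⁻¹ * (a : H)⁻¹ := by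
          group
      _ = a * ((a : H)⁻¹ * b * z) * ((a : H)⁻¹ * b)⁻¹ * (a : H)⁻¹ := by rw [h1]
      _ = a * ((a : H)⁻¹ * b) * z * (a * ((a : H)⁻¹ * b))⁻¹ := by group)
  have hf : ∀ g : R, f (g : Q) = cj g zV := fun g => rfl
  have hsmul : ∀ (g : R) (q : Q), f (g • q) = cj g (f q) := by
    intro g q
    obtain ⟨a, rfl⟩ := QuotientGroup.mk_surjective q
    have : (g • (a : Q)) = ((g * a : R) : Q) := rfl
    rw [this, hf, hf]
    apply Subtype.ext
    show ((g : H) * a) * z * ((g : H) * a)⁻¹ = (g : H) * ((a : H) * z * (a : H)⁻¹) * (g : H)⁻¹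
    group
  let P : V := ∏ q : Q, f q
  have hP : ∀ g : R, cj g P = P := by
    intro g
    show cj g (∏ q : Q, f q) = ∏ q : Q, f q
    rw [map_prod]
    simp_rw [← hsmul]
    exact Fintype.prod_bijective (fun q : Q => g • q) (MulAction.bijective g) _ _ (fun _ => rfl)
  let n := Fintype.card Q
  have hn : n = T.relIndex R := by
    show Fintype.card Q = _
    rw [← Nat.card_eq_fintype_card]
    rfl
  let w₀ : V := ∏ q : Q, (f q * zV⁻¹)
  have hw₀ : (w₀ : H) ∈ W := by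
    have h1 : w₀ ∈ W.subgroupOf V := by
      refine Subgroup.prod_mem _ fun q _ => ?_
      obtain ⟨a, rfl⟩ := QuotientGroup.mk_surjective q
      rw [mem_subgroupOf]
      exact hW a a.2
    exact h1
  have hPw : P = zV ^ n * w₀ := by
    show ∏ q : Q, f q = zV ^ n * ∏ q : Q, (f q * zV⁻¹)
    rw [Finset.prod_mul_distrib, Finset.prod_const, Finset.card_univ]
    show _ = zV ^ n * (_ * zV⁻¹ ^ n)
    rw [inv_pow]
    simp
  have hcop : Nat.Coprime n p := by
    rw [hn]; exact ((Nat.Prime.coprime_iff_not_dvd hp.1).2 hidx).symm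
  obtain ⟨m, hm⟩ : ∃ m : ℕ, (zV ^ n) ^ m = zV := by
    have h1 : Nat.Coprime n (orderOf zV) := by
      refine Nat.Coprime.coprime_dvd_right ?_ hcop
      exact orderOf_dvd_of_pow_eq_one (Subtype.ext hzp)
    exact exists_pow_eq_self_of_coprime h1
  refine ⟨(P ^ m : V), (P ^ m).2, ?_, ((w₀⁻¹ ^ m : V) : H), ?_, ?_⟩
  · intro g hg
    have h1 : cj ⟨g, hg⟩ (P ^ m) = P ^ m := by rw [map_pow, hP]
    have h2 : g * ((P ^ m : V) : H) * g⁻¹ = ((P ^ m : V) : H) := congrArg Subtype.val h1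
    exact mul_inv_eq_iff_eq_mul.1 h2
  · exact pow_mem (inv_mem hw₀) m
  · have h1 : P ^ m * w₀⁻¹ ^ m = zV := by
      rw [← mul_pow, hPw, mul_inv_cancel_right, hm]
    exact (congrArg Subtype.val h1).symm

end Cfsg.Agent.H225.Trace
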